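import Cfsg.Agent.Lib.Lie.Chev.Tw.D4

/-!
# Arithmetic of a regular element of the torus of order `(q³ - 1)(q + 1)`
-/

set_option autoImplicit false
set_option maxRecDepth 100000

namespace CfsgLib.Lie.Chev

open Cfsg.Lie

namespace TD4

/-- the exponent of a character on the generator of the torus -/
def torExp (q : ℤ) (r : Fin chevD4.rank → ℤ) : ℤ :=
  r (nd 0) + r (nd 1) * (q ^ 3 - 1) + r (nd 2) * (q - q ^ 3 + 1) + r (nd 3) * q ^ 2

/-- the order of the torus -/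
def torN (q : ℤ) : ℤ := (q ^ 3 - 1) * (q + 1)

theorem torExp_big {q a b c d : ℤ} (hq : 8 ≤ q) (ha : |a| ≤ 2) (hb : |b| ≤ 3) (hc : |c| ≤ 2)
    (hd : |d| ≤ 2) (h : torN q ∣ a + b * (q ^ 3 - 1) + c * (q - q ^ 3 + 1) + d * q ^ 2) :
    a = 0 ∧ b = 0 ∧ c = 0 ∧ d = 0 := by
  rw [abs_le] at ha hb hc hd
  have hz : ∀ x y : ℤ, x + q * y = 0 → |x| < q → x = 0 ∧ y = 0 := by
    intro x y e hx
    have hd' : q ∣ x := ⟨-y, by linarith⟩
    have h1 : x = 0 := by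
      by_contra hne
      have := Int.le_of_dvd (abs_pos.2 hne) ((dvd_abs _ _).2 hd')
      omega
    subst h1
    rw [zero_add, mul_eq_zero] at e
    exact ⟨rfl, e.resolve_left (by omega)⟩
  set f := a + b * (q ^ 3 - 1) + c * (q - q ^ 3 + 1) + d * q ^ 2 with hf
  have hf0 : f = 0 := by
    by_contra hne
    have h1 := Int.le_of_dvd (abs_pos.2 hne) ((dvd_abs _ _).2 h)
    have hq2 : 8 * q ≤ q ^ 2 := by nlinarith
    have hq3 : 8 * q ^ 2 ≤ q ^ 3 := by nlinarith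
    have hq4 : 8 * q ^ 3 ≤ q ^ 4 := by nlinarith [pow_nonneg (show (0:ℤ) ≤ q by omega) 3]
    have h0 : (0 : ℤ) ≤ q ^ 2 := sq_nonneg q
    have h03 : (0 : ℤ) ≤ q ^ 3 := by linarith
    have e : f = (b - c) * q ^ 3 + d * q ^ 2 + c * q + (a - b + c) := by rw [hf]; ring
    have eN : torN q = q ^ 4 + q ^ 3 - q - 1 := by rw [torN]; ring
    rw [eN] at h1
    rcases abs_choice f with hh | hh <;> rw [hh, e] at h1
    · linarith [mul_le_mul_of_nonneg_right (show b - c ≤ 5 by omega) h03,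
        mul_le_mul_of_nonneg_right (show d ≤ 2 by omega) h0,
        mul_le_mul_of_nonneg_right (show c ≤ 2 by omega) (show (0:ℤ) ≤ q by omega)]
    · linarith [mul_le_mul_of_nonneg_right (show -5 ≤ b - c by omega) h03,
        mul_le_mul_of_nonneg_right (show -2 ≤ d by omega) h0,
        mul_le_mul_of_nonneg_right (show -2 ≤ c by omega) (show (0:ℤ) ≤ q by omega)]
  have e1 : (a - b + c) + q * (c + q * (d + q * (b - c))) = 0 := by rw [← hf0, hf]; ring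
  obtain ⟨x1, e2⟩ := hz _ _ e1 (by rw [abs_lt]; omega)
  obtain ⟨x2, e3⟩ := hz _ _ e2 (by rw [abs_lt]; omega)
  obtain ⟨x3, x4⟩ := hz _ _ e3 (by rw [abs_lt]; omega)
  omega

theorem rho_bound : ∀ s : Fin chevD4.nroots, |C.G.rho s (nd 0)| ≤ 1 ∧ |C.G.rho s (nd 1)| ≤ 2 ∧
    |C.G.rho s (nd 2)| ≤ 1 ∧ |C.G.rho s (nd 3)| ≤ 1 ∧
    ¬ (C.G.rho s (nd 0) = 0 ∧ C.G.rho s (nd 1) = 0 ∧ C.G.rho s (nd 2) = 0 ∧ C.G.rho s (nd 3) = 0) := by
  decide +kernel

theorem small_cases : ∀ q : Fin 8, 2 ≤ q.val → ∀ s : Fin chevD4.nroots,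
    ¬ torN q.val ∣ torExp q.val (C.G.rho s) ∧
    ∀ i : Fin chevD4.rank, torN q.val ∣ torExp q.val (C.G.rho s) - torExp q.val (Pi.single i 1) →
      (∀ j, C.G.rho s j = (Pi.single i 1 : Fin chevD4.rank → ℤ) j) ∨
        (i = nd 1 ∧ ∀ s' : Fin chevD4.nroots, ¬ (C.G.rho s' (nd 0) = 1 + 2 * C.G.rho s (nd 0) ∧
          C.G.rho s' (nd 1) = 2 * C.G.rho s (nd 1) ∧ C.G.rho s' (nd 2) = 1 + 2 * C.G.rho s (nd 2) ∧
          C.G.rho s' (nd 3) = 1 + 2 * C.G.rho s (nd 3))) := by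
  decide +kernel

theorem high_root : ∃ s : Fin chevD4.nroots, C.G.rho s (nd 0) = 1 ∧ C.G.rho s (nd 1) = 2 ∧
    C.G.rho s (nd 2) = 1 ∧ C.G.rho s (nd 3) = 1 := by
  decide +kernel

theorem nd_cases : ∀ j : Fin chevD4.rank, j = nd 0 ∨ j = nd 1 ∨ j = nd 2 ∨ j = nd 3 := by
  decide +kernel

theorem single_bound : ∀ i j : Fin chevD4.rank,
    (Pi.single i 1 : Fin chevD4.rank → ℤ) j = 0 ∨ (Pi.single i 1 : Fin chevD4.rank → ℤ) j = 1 := by
  decide +kernel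

theorem torExp_sub (q : ℤ) (r r' : Fin chevD4.rank → ℤ) :
    torExp q r - torExp q r' = torExp q (r - r') := by
  simp only [torExp, Pi.sub_apply]; ring

/-- regularity, and the roots with the exponent of a fundamental root -/
theorem torExp_root {q : ℕ} (hq : 2 ≤ q) (s : Fin chevD4.nroots) :
    ¬ torN q ∣ torExp q (C.G.rho s) ∧
    ∀ i : Fin chevD4.rank, torN q ∣ torExp q (C.G.rho s) - torExp q (Pi.single i 1) →
      (∀ j, C.G.rho s j = (Pi.single i 1 : Fin chevD4.rank → ℤ) j) ∨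
        (i = nd 1 ∧ ∀ s' : Fin chevD4.nroots, ¬ (C.G.rho s' (nd 0) = 1 + 2 * C.G.rho s (nd 0) ∧
          C.G.rho s' (nd 1) = 2 * C.G.rho s (nd 1) ∧ C.G.rho s' (nd 2) = 1 + 2 * C.G.rho s (nd 2) ∧
          C.G.rho s' (nd 3) = 1 + 2 * C.G.rho s (nd 3))) := by
  by_cases h8 : q < 8
  · exact small_cases ⟨q, h8⟩ hq s
  obtain ⟨b0, b1, b2, b3, bne⟩ := rho_bound s
  have hq8 : (8 : ℤ) ≤ q := by omega
  refine ⟨fun h => bne (torExp_big hq8 (b0.trans (by norm_num)) (b1.trans (by norm_num))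
    (b2.trans (by norm_num)) (b3.trans (by norm_num)) h), fun i h => Or.inl fun j => ?_⟩
  rw [torExp_sub] at h
  rw [abs_le] at b0 b1 b2 b3
  have hs := single_bound i
  obtain ⟨e0, e1, e2, e3⟩ := torExp_big hq8
    (by rw [abs_le, Pi.sub_apply]; rcases hs (nd 0) with e | e <;> omega)
    (by rw [abs_le, Pi.sub_apply]; rcases hs (nd 1) with e | e <;> omega)
    (by rw [abs_le, Pi.sub_apply]; rcases hs (nd 2) with e | e <;> omega)
    (by rw [abs_le, Pi.sub_apply]; rcases hs (nd 3) with e | e <;> omega) h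
  simp only [Pi.sub_apply, sub_eq_zero] at e0 e1 e2 e3
  rcases nd_cases j with rfl | rfl | rfl | rfl <;> assumption

theorem torExp_coprime (q : ℤ) : IsCoprime (torN q) (1 + q - q ^ 2) := by
  have h2 : IsCoprime (2 : ℤ) (1 + q - q ^ 2) := by
    obtain ⟨m, hm⟩ : Even (q ^ 2 - q) := by
      rw [show q ^ 2 - q = q * (q - 1) by ring]
      exact Int.even_mul_pred_self q
    exact ⟨m, 1, by linarith⟩
  have hq : IsCoprime q (1 + q - q ^ 2) := ⟨q - 1, 1, by ring⟩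
  refine IsCoprime.mul_left ?_ ⟨2 - q, -1, ?_⟩
  · have h := (h2.mul_left hq)
    rw [show q ^ 3 - 1 = 2 * q + (1 + q - q ^ 2) * (-q - 1) by ring]
    exact h.add_mul_left_left _
  · ring

end TD4

end CfsgLib.Lie.Chev
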