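import Cfsg.Agent.Lib.Lie.Chev.Tw.D4Gp
import Cfsg.Agent.Lib.Lie.Chev.CoxTorus.WMat

/-!
# Fixed elements of the twist over a larger field

If `θ' ∘ ι = ι ∘ θ` and the fixed field of the cube of `θ'` is the image of `ι`, then the elements
fixed by the twist over the larger field come from the twisted group over the smaller one.
-/

set_option autoImplicit false
set_option maxRecDepth 100000

namespace CfsgLib.Lie.Chev

open Cfsg.Lie
open scoped MatrixGroups

namespace TD4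

theorem cube_table : ∀ r : Fin chevD4.nroots,
    graphD4.p.get (graphD4.p.get (graphD4.p.get r.val)) = r.val ∧
      sgnB (graphD4.eps.get (graphD4.p.get (graphD4.p.get r.val))) *
        (sgnB (graphD4.eps.get (graphD4.p.get r.val)) * sgnB (graphD4.eps.get r.val)) = 1 := by
  decide +kernel

variable {K : Type*} [Field K] (θ : K ≃+* K)

theorem p_val (r : Fin chevD4.nroots) : ((twist θ).p r).val = graphD4.p.get r.val := rfl

theorem eps_eq (r : Fin chevD4.nroots) : (twist θ).eps r = (sgnB (graphD4.eps.get r.val) : K) := rfl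

/-- the cube of the twist is a field automorphism -/
theorem φ_three {g : GL chevD4.Idx K} (hg : g ∈ chevD4.group K) :
    ((twist θ).φ ((twist θ).φ ((twist θ).φ ⟨g, hg⟩)) : GL chevD4.Idx K) =
      fmap chevD4 ((θ.trans θ).trans θ).toRingHom g := by
  let f1 : ↥(chevD4.group K) →* GL chevD4.Idx K :=
    (chevD4.group K).subtype.comp ((twist θ).φ.comp ((twist θ).φ.comp (twist θ).φ))
  let f2 : ↥(chevD4.group K) →* GL chevD4.Idx K :=
    (fmap chevD4 ((θ.trans θ).trans θ).toRingHom).comp (chevD4.group K).subtype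
  have hle : chevD4.group K ≤ (f1.eqLocus f2).map (chevD4.group K).subtype := by
    conv_lhs => rw [C.G.group_eq]
    rw [Subgroup.closure_le]
    rintro _ ⟨r, t, rfl⟩
    refine ⟨⟨_, C.G.xu_mem r t⟩, ?_, rfl⟩
    show ((twist θ).φ ((twist θ).φ ((twist θ).φ ⟨C.G.xu r t, C.G.xu_mem r t⟩)) : GL chevD4.Idx K) =
      fmap chevD4 ((θ.trans θ).trans θ).toRingHom (C.G.xu r t)
    rw [(twist θ).φ_xu, (twist θ).φ_xu, (twist θ).φ_xu, C.G.fmap_xu]
    obtain ⟨e1, e2⟩ := cube_table r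
    have hp : (twist θ).p ((twist θ).p ((twist θ).p r)) = r :=
      Fin.ext (by rw [p_val, p_val, p_val]; exact e1)
    simp only [σ_eq, map_mul, eps_eq, p_val, map_intCast, hp]
    congr 1
    have e3 := congrArg (Int.cast : ℤ → K) e2
    push_cast at e3
    show _ = θ (θ (θ t))
    linear_combination (θ (θ (θ t))) * e3
  obtain ⟨y, hy, e⟩ := hle hg
  obtain rfl : y = ⟨g, hg⟩ := Subtype.ext e
  exact hy

theorem σT_cube (c : Fin chevD4.rank → Kˣ) :
    (twist θ).σT ((twist θ).σT ((twist θ).σT c)) =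
      fun j => Units.map ((θ.trans θ).trans θ).toMonoidHom (c j) := by
  funext j
  apply Units.ext
  simp only [Twist.σT]
  show θ (θ (θ _)) = θ (θ (θ _))
  have hn : ∀ i : Fin chevD4.rank, node.get (node.get (node.get i.val)) = i.val := by decide +kernel
  have e : (twist θ).node ((twist θ).node ((twist θ).node j)) = j := Fin.ext (hn j)
  rw [show (twist θ).node.symm ((twist θ).node.symm ((twist θ).node.symm j)) = j by
    rw [Equiv.symm_apply_eq, Equiv.symm_apply_eq, Equiv.symm_apply_eq]; exact e.symm]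

theorem sq_val {z : Fin chevD4.rank → Kˣ} (hz : C.G.torθ z = 1) (i : Fin chevD4.rank) :
    (z i : K) = 1 ∨ (z i : K) = -1 := by
  refine mul_self_eq_one_iff.1 ?_
  rw [← Units.val_mul, show z i * z i = 1 from congrFun (ker_sq hz) i, Units.val_one]

variable {L : Type*} [Field L] {θ} {θ' : L ≃+* L} {ι : K →+* L}

/-- the twists commute with the map of fields -/
theorem φ_fmap (hc : ∀ x, ι (θ x) = θ' (ι x)) {g : GL chevD4.Idx K} (hg : g ∈ chevD4.group K) :
    ((twist θ').φ ⟨fmap chevD4 ι g, C.G.fmap_mem_group ι hg⟩ : GL chevD4.Idx L) =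
      fmap chevD4 ι ((twist θ).φ ⟨g, hg⟩ : GL chevD4.Idx K) := by
  let j : ↥(chevD4.group K) →* ↥(chevD4.group L) :=
    ((fmap chevD4 ι).comp (chevD4.group K).subtype).codRestrict _ fun x => C.G.fmap_mem_group ι x.2
  let f1 : ↥(chevD4.group K) →* GL chevD4.Idx L :=
    (chevD4.group L).subtype.comp ((twist θ').φ.comp j)
  let f2 : ↥(chevD4.group K) →* GL chevD4.Idx L :=
    (fmap chevD4 ι).comp ((chevD4.group K).subtype.comp (twist θ).φ)
  have hle : chevD4.group K ≤ (f1.eqLocus f2).map (chevD4.group K).subtype := by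
    conv_lhs => rw [C.G.group_eq]
    rw [Subgroup.closure_le]
    rintro _ ⟨r, t, rfl⟩
    refine ⟨⟨_, C.G.xu_mem r t⟩, ?_, rfl⟩
    show ((twist θ').φ (j ⟨C.G.xu r t, C.G.xu_mem r t⟩) : GL chevD4.Idx L) =
      fmap chevD4 ι ((twist θ).φ ⟨C.G.xu r t, C.G.xu_mem r t⟩ : GL chevD4.Idx K)
    rw [show j ⟨C.G.xu r t, C.G.xu_mem r t⟩ = ⟨C.G.xu r (ι t), C.G.xu_mem r _⟩ from
      Subtype.ext (C.G.fmap_xu ι r t), (twist θ').φ_xu, (twist θ).φ_xu]
    simp only [C.G.fmap_xu, map_mul, σ_eq, hc, eps_eq, map_intCast]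
    rfl
  obtain ⟨y, hy, e⟩ := hle hg
  obtain rfl : y = ⟨g, hg⟩ := Subtype.ext e
  exact hy

theorem fmap_mem_Fix (hc : ∀ x, ι (θ x) = θ' (ι x)) {g : GL chevD4.Idx K} (hg : g ∈ (twist θ).Fix) :
    fmap chevD4 ι g ∈ (twist θ').Fix :=
  (twist θ').mem_Fix.2 ⟨_, Subtype.ext ((φ_fmap hc ((twist θ).Fix_le hg)).trans
    (congrArg _ ((twist θ).fix_eq hg _)))⟩

theorem mem_Fix_of_fmap (hc : ∀ x, ι (θ x) = θ' (ι x)) {g : GL chevD4.Idx K}
    (hg : g ∈ chevD4.group K) (h : fmap chevD4 ι g ∈ (twist θ').Fix) : g ∈ (twist θ).Fix :=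
  (twist θ).mem_Fix.2 ⟨hg, Subtype.ext (fmap_injective ι
    ((φ_fmap hc hg).symm.trans ((twist θ').fix_eq h _)))⟩

section

variable {q : ℕ} (hθ : ∀ x, θ x = x ^ q) (h3 : ∀ t : K, θ (θ (θ t)) = t)

include hθ h3

/-- every fixed element lies in the group -/
theorem Fix_le_gen : (twist θ).Fix ≤ twistedD4 K q := by
  intro g hg
  have P := twGp θ hθ h3
  obtain ⟨v, m, u, π, hv, hm, hπ, -, hu, rfl⟩ := (twist θ).fix_bruhat hg
  exact mul_mem (mul_mem (P.toPre.U_le hv) (P.N_le hm))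
    (P.toPre.U_le ⟨hu.1, C.G.Uinv_le _ hu.2⟩)

end

variable (hc : ∀ x, ι (θ x) = θ' (ι x)) (hι : ∀ x, θ' (θ' (θ' x)) = x → ∃ y, ι y = x)

include hc hι

theorem unip_descent {v : GL chevD4.Idx L} (hv : v ∈ (twist θ').Fix ⊓ chevD4.posUnipotent L) :
    ∃ v₀ ∈ (twist θ).Fix ⊓ chevD4.posUnipotent K, fmap chevD4 ι v₀ = v := by
  classical
  obtain ⟨hvF, hvU⟩ := hv
  have hF := φ_three θ' ((twist θ').Fix_le hvF)
  have e : (twist θ').φ ⟨v, (twist θ').Fix_le hvF⟩ = ⟨v, (twist θ').Fix_le hvF⟩ :=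
    Subtype.ext ((twist θ').fix_eq hvF _)
  rw [e, e, e] at hF
  obtain ⟨t, rfl⟩ := C.exists_uprod chevD4.nroots 0 (Nat.zero_add _) v (C.G.posUnipotent_eq (K := L) ▸ hvU)
  rw [C.fmap_uprod] at hF
  have ht := C.uprod_inj chevD4.nroots 0 (Nat.zero_add _) _ _ hF.symm
  choose y hy using fun r : {r : Fin chevD4.nroots // chevD4.IsPosRoot r.val} =>
    hι (t r.1) (ht r.1 (Nat.zero_le _) r.2)
  set v₀ := C.uprod 0 (fun r => if hr : chevD4.IsPosRoot r.val then y ⟨r, hr⟩ else 0) with hv₀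
  have hU : v₀ ∈ chevD4.posUnipotent K := by
    rw [C.G.posUnipotent_eq]
    exact C.uprod_mem 0 _
  have he : fmap chevD4 ι v₀ = C.uprod 0 t := by
    rw [hv₀, C.fmap_uprod]
    exact C.uprod_congr fun r _ hr => by rw [dif_pos hr, hy]
  exact ⟨v₀, ⟨mem_Fix_of_fmap hc (C.G.posUnipotent_le_group hU) (he ▸ hvF), hU⟩, he⟩

theorem torus_descent (h3 : ∀ t : K, θ (θ (θ t)) = t) {h : GL chevD4.Idx L}
    (hh : h ∈ (twist θ').Fix ⊓ chevD4.diagonalSubgroup L) :
    ∃ h₀ ∈ (twist θ).Fix ⊓ chevD4.diagonalSubgroup K, fmap chevD4 ι h₀ = h := by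
  obtain ⟨hF, hd⟩ := hh
  obtain ⟨c, rfl⟩ := (C.G.diagonal_eq_range (K := L) ▸ hd : h ∈ (C.G.torθ (K := L)).range)
  set S := (twist θ').σT with hS
  have hfix : C.G.torθ (S c) = C.G.torθ c :=
    ((twist θ').φ_torθ c ((twist θ').Fix_le hF)).symm.trans ((twist θ').fix_eq hF _)
  set z := S c * c⁻¹ with hz
  have hz1 : C.G.torθ z = 1 := by rw [map_mul, map_inv, hfix, mul_inv_cancel]
  have hpm : ∀ i, θ' (θ' (θ' (z i : L))) = (z i : L) := fun i => by
    rcases sq_val hz1 i with h | h <;> rw [h] <;> simp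
  set c3 : Fin chevD4.rank → Lˣ :=
    fun j => Units.map ((θ'.trans θ').trans θ').toMonoidHom (c j) with hc3
  set z3 := c3 * c⁻¹ with hz3
  have hker : C.G.torθ z3 = 1 := by
    rw [map_mul, map_inv, hc3, ← σT_cube θ' c]
    have hstep : ∀ d, C.G.torθ d = C.G.torθ c → C.G.torθ (S d) = C.G.torθ c := by
      intro d hd'
      have hF' : C.G.torθ d ∈ (twist θ').Fix := hd' ▸ hF
      exact ((twist θ').φ_torθ d ((twist θ').Fix_le hF')).symm.trans
        (((twist θ').fix_eq hF' _).trans hd')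
    rw [hstep _ (hstep _ hfix), mul_inv_cancel]
  have hval : ∀ i, (z3 i : L) = θ' (θ' (θ' (c i : L))) * ((c i : L))⁻¹ := fun i => by
    simp [hz3, hc3]
  have hσz3 : ∀ j, θ' (z3 ((twist θ').node.symm j) : L) = (z3 j : L) := by
    intro j
    have e : θ' (c ((twist θ').node.symm j) : L) = (z j : L) * (c j : L) := by
      rw [hz, Pi.mul_apply, Units.val_mul, Pi.inv_apply, mul_assoc, Units.inv_mul, mul_one]
      rfl
    rw [hval, hval, map_mul, map_inv₀, e]
    rw [map_mul, map_mul, map_mul, hpm]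
    have := (z j).ne_zero
    field_simp
  have hw : ∀ i, ∃ w : Kˣ, ι (w : K) = (z3 i : L) := fun i => by
    rcases sq_val hker i with h | h
    · exact ⟨1, by simp [h]⟩
    · exact ⟨-1, by simp [h]⟩
  choose w hw using hw
  have hwz : z3 = fun i => Units.map ι.toMonoidHom (w i) := funext fun i => Units.ext (hw i).symm
  have hw1 : C.G.torθ w = 1 := by
    refine fmap_injective (D := chevD4) ι ?_
    rw [C.G.fmap_torθ, ← hwz, hker, map_one]
  have hwfix : (twist θ).σT w = w := by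
    funext j
    refine Units.ext (ι.injective ?_)
    show ι (θ (w ((twist θ).node.symm j) : K)) = ι (w j : K)
    rw [hc, hw, hw]
    exact hσz3 j
  have hone : w = 1 := torθ_injective_fixed θ h3 hwfix (twist θ).σT_one (by rw [hw1, map_one])
  have hc0 : ∀ i, ∃ y : K, ι y = (c i : L) := fun i => hι _ (by
    have h1 := hval i
    rw [← hw, hone, Pi.one_apply, Units.val_one, map_one, eq_comm,
      mul_inv_eq_one₀ (c i).ne_zero] at h1
    exact h1)
  choose y hy using hc0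
  have hy0 : ∀ i, y i ≠ 0 := fun i h0 => (c i).ne_zero (by rw [← hy i, h0, map_zero])
  set h₀ := C.G.torθ fun i => Units.mk0 (y i) (hy0 i) with hh₀
  have hmem : h₀ ∈ chevD4.diagonalSubgroup K :=
    (C.G.diagonal_eq_range (K := K)).symm ▸ MonoidHom.mem_range.2 ⟨_, rfl⟩
  have he : fmap chevD4 ι h₀ = C.G.torθ c := by
    rw [hh₀, C.G.fmap_torθ]
    congr 1
    funext i
    exact Units.ext (hy i)
  exact ⟨h₀, ⟨mem_Fix_of_fmap hc (C.G.diagonal_le_group hmem) (he ▸ hF), hmem⟩, he⟩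

/-- the fixed elements over the larger field come from the twisted group -/
theorem fix_descent {q : ℕ} (hθ : ∀ x, θ x = x ^ q) (h3 : ∀ t : K, θ (θ (θ t)) = t)
    {g : GL chevD4.Idx L} (hg : g ∈ (twist θ').Fix) :
    ∃ g₀ ∈ twistedD4 K q, fmap chevD4 ι g₀ = g := by
  obtain ⟨v, m, u, π, hv, ⟨hmF, hmN⟩, hπ, hmπ, hu, rfl⟩ := (twist θ').fix_bruhat hg
  have P := twGp θ hθ h3
  obtain ⟨n, hn, hnπ⟩ := P.toPre.exists_n (show π ∈ Wp C.G (twist θ).p from hπ)
  obtain ⟨hnG, hnN⟩ := Subgroup.mem_inf.1 (P.toPre.closure_nk_le hn)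
  have hnF := fmap_mem_Fix hc (P.le hnG)
  have hnπ' := CfsgLib.Lie.CoxTorus.nPerm_fmap C ι hnN hnπ
  have hnN' : fmap chevD4 ι n ∈ chevD4.monomialSubgroup L := by
    obtain ⟨d, hd, l, rfl⟩ := C.G.monomial_decomp hnN
    rw [map_mul, C.G.fmap_nw]
    exact mul_mem (C.G.H_le_monomial (C.G.fmap_mem_H ι hd)) (C.G.nw_mem_monomial _)
  have hh : m * (fmap chevD4 ι n)⁻¹ ∈ (twist θ').Fix ⊓ chevD4.diagonalSubgroup L := by
    refine Subgroup.mem_inf.2 ⟨mul_mem hmF (inv_mem hnF),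
      C.G.mem_H_of_nPerm_one (mul_mem hmN (inv_mem hnN')) ?_⟩
    have := Good.NPerm.mul C.G hmπ (Good.NPerm.inv C.G hnπ')
    rwa [mul_inv_cancel] at this
  obtain ⟨h₀, hh₀, eh⟩ := torus_descent hc hι h3 hh
  obtain ⟨v₀, hv₀, ev⟩ := unip_descent hc hι hv
  obtain ⟨u₀, hu₀, eu⟩ := unip_descent hc hι (v := u) ⟨hu.1, C.G.Uinv_le _ hu.2⟩
  refine ⟨v₀ * (h₀ * n) * u₀, mul_mem (mul_mem (Fix_le_gen hθ h3 hv₀.1) (mul_mem
    (Fix_le_gen hθ h3 hh₀.1) hnG)) (Fix_le_gen hθ h3 hu₀.1), ?_⟩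
  rw [map_mul, map_mul, map_mul, eh, ev, eu, inv_mul_cancel_right]

end TD4

end CfsgLib.Lie.Chev
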