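import Cfsg.Agent.Lib.Lie.Chev.Tw.D4Tor.Arith
import Cfsg.Agent.Lib.Lie.Chev.Cover
import Cfsg.Agent.Lib.Lie.Chev.Tw.D4Tor.Descent

/-!
# The twist on the conjugated torus
-/

set_option autoImplicit false
set_option maxRecDepth 100000

namespace CfsgLib.Lie.Chev

open Cfsg.Lie
open scoped MatrixGroups

namespace TD4

variable {L : Type*} [Field L]

theorem univ_nd : (Finset.univ : Finset (Fin chevD4.rank)) = {nd 0, nd 1, nd 2, nd 3} := by
  decide +kernel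

theorem nd_notMem : (nd 0 : Fin chevD4.rank) ∉ ({nd 1, nd 2, nd 3} : Finset _) ∧
    (nd 1 : Fin chevD4.rank) ∉ ({nd 2, nd 3} : Finset _) ∧
    (nd 2 : Fin chevD4.rank) ∉ ({nd 3} : Finset _) := by
  decide +kernel

theorem prod_nd {M : Type*} [CommMonoid M] (f : Fin chevD4.rank → M) :
    ∏ i, f i = f (nd 0) * (f (nd 1) * (f (nd 2) * f (nd 3))) := by
  obtain ⟨h1, h2, h3⟩ := nd_notMem
  rw [univ_nd, Finset.prod_insert h1, Finset.prod_insert h2, Finset.prod_insert h3,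
    Finset.prod_singleton]

/-- the coordinates of the image of a parameter -/
def cart4 (c : Fin chevD4.rank → Lˣ) : Fin chevD4.rank → Lˣ := fun j =>
  if j = nd 1 then c j ^ 2 * (c (nd 0) * c (nd 2) * c (nd 3))⁻¹ else c j ^ 2 * (c (nd 1))⁻¹

theorem cart_val : ∀ i j : Fin chevD4.rank, cart chevD4 i (C.G.simp' j) =
    if i = j then 2 else if i = nd 1 ∨ j = nd 1 then -1 else 0 := by
  decide +kernel

theorem nd_ne : (nd 0 : Fin chevD4.rank) ≠ nd 1 ∧ (nd 2 : Fin chevD4.rank) ≠ nd 1 ∧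
    (nd 3 : Fin chevD4.rank) ≠ nd 1 ∧ (nd 0 : Fin chevD4.rank) ≠ nd 2 ∧
    (nd 0 : Fin chevD4.rank) ≠ nd 3 ∧ (nd 2 : Fin chevD4.rank) ≠ nd 3 := by
  decide +kernel

theorem torθ_eq_tor (c : Fin chevD4.rank → Lˣ) : C.G.torθ c = C.G.tor (cart4 c) := by
  simp only [Good.torθ, MonoidHom.comp_apply, MonoidHom.coe_mk, OneHom.coe_mk]
  congr 1
  funext l
  obtain ⟨d1, d2, d3, d4, d5, d6⟩ := nd_ne
  rw [prod_nd]
  simp only [cart_val]
  rcases nd_cases l with rfl | rfl | rfl | rfl <;>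
    simp [cart4, d1, d2, d3, d4, d5, d6, d1.symm, d2.symm, d3.symm, d4.symm, d5.symm, d6.symm,
      mul_inv, zpow_two, pow_two, mul_comm, mul_assoc, mul_left_comm]

theorem node_vals (θ : L ≃+* L) : (twist θ).node (nd 0) = nd 2 ∧ (twist θ).node (nd 1) = nd 1 ∧
    (twist θ).node (nd 2) = nd 3 ∧ (twist θ).node (nd 3) = nd 0 := by
  refine ⟨?_, ?_, ?_, ?_⟩ <;> refine Fin.ext ((node_eq θ _).trans ?_) <;> decide +kernel

theorem wc_one (b : Fin chevD4.rank → Lˣ) :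
    C.G.wc (nd 1) b = fun j => if j = nd 1 then (b (nd 1))⁻¹ else b j * b (nd 1) := by
  funext j
  simp only [Good.wc, cart_val]
  obtain ⟨d1, d2, d3, d4, d5, d6⟩ := nd_ne
  by_cases h : j = nd 1
  · subst h
    simp [zpow_two, mul_inv]
    rw [pow_two, mul_inv, mul_inv_cancel_left]
  · simp [h, Ne.symm h]

variable (θ : L ≃+* L)

/-- the parameters of an element of the conjugated torus that is moved like the reflection -/
theorem fixed_coords {q : ℕ} (hθ : ∀ x, θ x = x ^ q) {w : GL chevD4.Idx L} (hw : w ∈ chevD4.group L)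
    (hπ : C.G.NPerm w (C.G.sP (nd 1))) {a : Fin chevD4.rank → Lˣ} (ha : C.G.tor a ∈ chevD4.group L)
    (hφ : ((twist θ).φ ⟨C.G.tor a, ha⟩ : GL chevD4.Idx L) = w⁻¹ * C.G.tor a * w) :
    (∀ j, a j = a (nd 0) ^ torExp q (Pi.single j 1)) ∧ a (nd 0) ^ torN q = 1 := by
  have key : ∀ i, C.G.chi a (C.G.rho (C.G.sP (nd 1) ((twist θ).p (C.G.simp' i)))) = a i ^ q := by
    intro i
    set r := C.G.simp' i
    obtain ⟨k, hk⟩ := hπ ((twist θ).p r)
    have h1 : (⟨C.G.tor a, ha⟩ * ⟨C.G.xu r 1, C.G.xu_mem r 1⟩ * ⟨C.G.tor a, ha⟩⁻¹ :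
        ↥(chevD4.group L)) = ⟨C.G.xu r (a i : L), C.G.xu_mem _ _⟩ :=
      Subtype.ext ((C.G.tor_conj_xu a r 1).trans (by rw [C.G.rho_simp, C.G.chi_single, mul_one]))
    have h2 := congrArg Subtype.val (congrArg (twist θ).φ h1)
    rw [map_mul, map_mul, map_inv, (twist θ).φ_xu, (twist θ).φ_xu] at h2
    simp only [Subgroup.coe_mul, Subgroup.coe_inv, hφ, (twist θ).eps_simp, r, one_mul, σ_eq, map_one]
      at h2
    have h3 := congrArg (fun g => w * g * w⁻¹) h2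
    rw [hk] at h3
    rw [show w * (w⁻¹ * C.G.tor a * w * C.G.xu ((twist θ).p (C.G.simp' i)) 1 *
        (w⁻¹ * C.G.tor a * w)⁻¹) * w⁻¹ =
      C.G.tor a * (w * C.G.xu ((twist θ).p (C.G.simp' i)) 1 * w⁻¹) * (C.G.tor a)⁻¹ by group,
      hk, C.G.tor_conj_xu] at h3
    have h4 := C.G.xu_injective _ h3
    rw [mul_one, mul_comm] at h4
    refine Units.ext ?_
    rw [Units.val_pow_eq_pow_val, ← hθ]
    exact mul_left_cancel₀ k.ne_zero h4
  have key' : ∀ i, C.G.chi a (C.G.rho (C.G.sP (nd 1) (C.G.simp' ((twist θ).node i)))) = a i ^ q :=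
    fun i => by rw [← (twist θ).p_simp]; exact key i
  have hchi : ∀ j, C.G.chi a (C.G.rho (C.G.sP (nd 1) (C.G.simp' j))) =
      a j * a (nd 1) ^ (- cart chevD4 (nd 1) (C.G.simp' j)) := by
    intro j
    rw [Good.sP_apply, C.G.rho_w, sub_eq_add_neg, ← neg_smul, C.G.chi_add, C.G.chi_zsmul,
      C.G.rho_simp, C.G.chi_single, C.G.chi_single]
  obtain ⟨d1, d2, d3, d4, d5, d6⟩ := nd_ne
  obtain ⟨n0, n1, n2, n3⟩ := node_vals θ
  have R0 := key' (nd 0); have R1 := key' (nd 1); have R2 := key' (nd 2); have R3 := key' (nd 3)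
  rw [n0, hchi, cart_val] at R0
  rw [n1, hchi, cart_val] at R1
  rw [n2, hchi, cart_val] at R2
  rw [n3, hchi, cart_val] at R3
  simp only [d1, d2, d3, d1.symm, d2.symm, d3.symm, if_true, if_false, true_or, neg_neg, zpow_one]
    at R0 R1 R2 R3
  replace R1 : (a (nd 1))⁻¹ = a (nd 1) ^ q := by
    rw [← R1, zpow_neg, zpow_two, mul_inv, mul_inv_cancel_left]
  -- eliminate
  have e3 : a (nd 3) = a (nd 0) ^ (q * q) := by
    have h := congrArg (· ^ q) R0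
    simp only [mul_pow, ← pow_mul, ← R1, ← R2] at h
    rwa [mul_inv_cancel_right] at h
  have e1 : a (nd 1) = a (nd 0) ^ ((q : ℤ) ^ 3 - 1) := by
    rw [e3, ← pow_mul, ← zpow_natCast] at R3
    rw [zpow_sub_one, show ((q : ℤ) ^ 3) = ((q * q * q : ℕ) : ℤ) by push_cast; ring, ← R3,
      mul_comm, inv_mul_cancel_left]
  have e2 : a (nd 2) = a (nd 0) ^ ((q : ℤ) - q ^ 3 + 1) := by
    rw [← zpow_natCast (a (nd 0)), eq_comm, ← mul_inv_eq_iff_eq_mul, e1, ← zpow_neg, ← zpow_add] at R0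
    rw [← R0]
    congr 1
    ring
  refine ⟨fun j => ?_, ?_⟩
  · rcases nd_cases j with rfl | rfl | rfl | rfl
    · simp [torExp, d1.symm, d4.symm, d5.symm]
    · simpa [torExp, d1, d2, d3] using e1
    · simpa [torExp, d2.symm, d4, d6.symm] using e2
    · simp [torExp, d3.symm, d5, d6, e3, ← zpow_natCast, pow_two]
  · rw [torN, zpow_mul, ← e1, zpow_add_one, zpow_natCast, ← R1, inv_mul_cancel]

theorem conj_torθ {c : Fin chevD4.rank → Lˣ} (h3 : θ (θ (θ (c (nd 0) : L))) = (c (nd 0) : L))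
    (h2 : (c (nd 2) : L) = θ (c (nd 0) : L)) (h3' : (c (nd 3) : L) = θ (c (nd 2) : L))
    (hμ : (c (nd 1) : L) * θ (c (nd 1) : L) = (c (nd 0) : L) * (c (nd 2) : L) * (c (nd 3) : L))
    {t : Lˣ} {w : GL chevD4.Idx L} (hw : w = C.G.hd (C.G.simp' (nd 1)) t * C.G.nU (nd 1))
    (h : C.G.torθ c ∈ chevD4.group L) :
    ((twist θ).φ ⟨C.G.torθ c, h⟩ : GL chevD4.Idx L) = w⁻¹ * C.G.torθ c * w := by
  rw [(twist θ).φ_torθ c h, eq_comm, mul_assoc, inv_mul_eq_iff_eq_mul, hw, mul_assoc _ (C.G.nU (nd 1)),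
    torθ_eq_tor ((twist θ).σT c), C.G.nU_tor, torθ_eq_tor c, ← mul_assoc, ← mul_assoc]
  congr 1
  obtain ⟨a, ha⟩ := C.G.exists_tor (C.G.hd_mem_H (C.G.simp' (nd 1)) t)
  rw [ha, ← map_mul, ← map_mul, mul_comm]
  congr 2
  obtain ⟨d1, d2, d3, d4, d5, d6⟩ := nd_ne
  obtain ⟨n0, n1, n2, n3⟩ := node_vals θ
  set S := (twist θ).σT c
  have hS : ∀ j, (S ((twist θ).node j) : L) = θ (c j : L) := fun j => by
    show θ (c ((twist θ).node.symm ((twist θ).node j)) : L) = _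
    rw [Equiv.symm_apply_apply]
  have s0 : S (nd 0) = c (nd 0) := Units.ext (by
    have := hS (nd 3); rw [n3] at this; rw [this, h3', h2, h3])
  have s2 : S (nd 2) = c (nd 2) := Units.ext (by have := hS (nd 0); rw [n0] at this; rw [this, h2])
  have s3 : S (nd 3) = c (nd 3) := Units.ext (by have := hS (nd 2); rw [n2] at this; rw [this, h3'])
  have s1 : c (nd 1) * S (nd 1) = c (nd 0) * c (nd 2) * c (nd 3) := Units.ext (by
    have := hS (nd 1); rw [n1] at this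
    simp only [Units.val_mul, this, hμ])
  have s1' : S (nd 1) = (c (nd 1))⁻¹ * (c (nd 0) * c (nd 2) * c (nd 3)) := by
    rw [← s1, inv_mul_cancel_left]
  rw [wc_one]
  funext j
  set N := c (nd 0) * c (nd 2) * c (nd 3)
  rcases nd_cases j with rfl | rfl | rfl | rfl <;>
    simp only [cart4, s0, s2, s3, s1', d1, d2, d3, if_true, if_false, N] <;>
    apply Units.ext <;> push_cast <;> field_simp

/-- the conjugating element -/
theorem φ_conjugator {ω v : L} (hv : v = (θ ω - ω)⁻¹) (hv0 : v ≠ 0) (hθv : θ v = -v)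
    (h : C.G.xu (rt 9) ω * C.G.xu (rt 14) v ∈ chevD4.group L) :
    ((twist θ).φ ⟨_, h⟩ : GL chevD4.Idx L) =
      C.G.xu (rt 9) ω * C.G.xu (rt 14) v * C.G.nE (rt 14) (-v) := by
  have hd : graphD4.p.get 9 = 9 ∧ graphD4.p.get 14 = 14 ∧ graphD4.eps.get 9 = false ∧
      graphD4.eps.get 14 = false := by decide +kernel
  rw [show (⟨_, h⟩ : ↥(chevD4.group L)) = ⟨C.G.xu (rt 9) ω, C.G.xu_mem _ _⟩ *
    ⟨C.G.xu (rt 14) v, C.G.xu_mem _ _⟩ from rfl, map_mul, (twist θ).φ_xu, (twist θ).φ_xu,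
    Subgroup.coe_mul, σ_eq, σ_eq, eps_one θ (r := rt 9) hd.2.2.1, eps_one θ (r := rt 14) hd.2.2.2,
    p_eq θ (r := rt 9) (s := rt 9) hd.1, p_eq θ (r := rt 14) (s := rt 14) hd.2.1, one_mul, one_mul,
    hθv, Good.nE, negr_rt.2.2.2]
  have e : θ ω = ω + -(-v)⁻¹ := by rw [hv, inv_neg, neg_neg, inv_inv]; ring
  dsimp only
  rw [e, C.G.xu_add, mul_assoc (C.G.xu (rt 9) ω) (C.G.xu (rt 14) v),
    ← mul_assoc (C.G.xu (rt 14) v), ← mul_assoc (C.G.xu (rt 14) v), ← C.G.xu_add (rt 14), add_neg_cancel,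
    C.G.xu_zero, one_mul, ← mul_assoc]

end TD4

end CfsgLib.Lie.Chev
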