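import Mathlib.FieldTheory.Finite.Extension
import Cfsg.Agent.Lib.Lie.Chev.Tw.D4Tor.Rel

/-!
# A cyclic self-centralizing torus of order `(q³ - 1)(q + 1)` in ³D₄(q)
-/

set_option autoImplicit false
set_option maxRecDepth 100000

namespace CfsgLib.Lie.Chev

open Cfsg.Lie CfsgLib.Lie.CoxTorus
open scoped MatrixGroups Matrix

namespace TD4

theorem chi_eq_zpow {L : Type*} [Field L] {a : Fin chevD4.rank → Lˣ} {γ : Lˣ} {q : ℤ}
    (ha : ∀ j, a j = γ ^ torExp q (Pi.single j 1)) (r : Fin chevD4.rank → ℤ) :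
    C.G.chi a r = γ ^ torExp q r := by
  obtain ⟨d1, d2, d3, d4, d5, d6⟩ := nd_ne
  rw [Good.chi, prod_nd]
  simp only [ha, ← zpow_mul, ← zpow_add]
  congr 1
  simp [torExp, d1, d2, d3, d4, d5, d6, d1.symm, d2.symm, d3.symm, d4.symm, d5.symm, d6.symm]
  ring

/-- a Weyl group element fixing the character of the regular element is trivial -/
theorem eq_one_of_fix_char {q : ℕ} (hq : 2 ≤ q) {π : Equiv.Perm (Fin chevD4.nroots)}
    (hπ : π ∈ C.G.Wg)
    (h : ∀ i, torN q ∣ torExp q (C.G.rho (π (C.G.simp' i))) - torExp q (Pi.single i 1)) : π = 1 := by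
  have hmain : ∀ i, i ≠ nd 1 →
      ∀ j, C.G.rho (π (C.G.simp' i)) j = (Pi.single i 1 : Fin chevD4.rank → ℤ) j := fun i hi =>
    ((torExp_root hq _).2 i (h i)).resolve_right fun h' => hi h'.1
  have hcentre : ∀ j, C.G.rho (π (C.G.simp' (nd 1))) j =
      (Pi.single (nd 1) 1 : Fin chevD4.rank → ℤ) j := by
    refine ((torExp_root hq _).2 (nd 1) (h _)).resolve_right ?_
    rintro ⟨-, hno⟩
    obtain ⟨s, s0, s1, s2, s3⟩ := high_root
    obtain ⟨d1, d2, d3, d4, d5, d6⟩ := nd_ne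
    have hlin : ∀ j, C.G.rho (π s) j = ∑ k, C.G.rho s k * C.G.rho (π (C.G.simp' k)) j := fun j => by
      rw [rho_perm C hπ]; rfl
    refine hno (π s) ⟨?_, ?_, ?_, ?_⟩ <;>
      rw [hlin, univ_nd, Finset.sum_insert nd_notMem.1, Finset.sum_insert nd_notMem.2.1,
        Finset.sum_insert nd_notMem.2.2, Finset.sum_singleton, s0, s1, s2, s3, hmain _ d1, hmain _ d2,
        hmain _ d3] <;>
      simp [d1, d2, d3, d4, d5, d6, d1.symm, d2.symm, d3.symm, d4.symm, d5.symm, d6.symm] <;> ring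
  refine eq_one_of_wm C hπ ?_
  ext i j
  rw [wm, Matrix.of_apply]
  by_cases hi : i = nd 1
  · subst hi
    rw [hcentre]
    simp [Matrix.one_apply, Pi.single_apply, eq_comm]
  · rw [hmain i hi]
    simp [Matrix.one_apply, Pi.single_apply, eq_comm]

variable {K : Type*} [Field K] [Fintype K] {q : ℕ}

/-- a quadratic extension with the power map and the facts needed about it -/
theorem exists_extension (hq : IsPrimePow q) (hK : Fintype.card K = q ^ 3) :
    ∃ (L : Type) (_ : Field L) (_ : Fintype L) (ι : K →+* L) (θ' : L ≃+* L),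
      Fintype.card L = q ^ 6 ∧ (∀ x, θ' x = x ^ q) ∧
      ∀ x, θ' (θ' (θ' x)) = x → ∃ y, ι y = x := by
  obtain ⟨p, a, hp, -, -, hc⟩ := Frob.exists_prime hq hK
  haveI := hc
  haveI := Fact.mk hp
  let L := FiniteField.Extension K p 2
  letI : Fintype L := Fintype.ofFinite L
  have hL : Fintype.card L = q ^ 6 := by
    rw [Fintype.card_eq_nat_card, FiniteField.natCard_extension, ← Fintype.card_eq_nat_card, hK,
      ← pow_mul]
  obtain ⟨θ', hθ'⟩ := Frob.exists_powEquiv (K := L) hq hL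
  refine ⟨L, inferInstance, inferInstance, algebraMap K L, θ', hL, hθ', fun x hx => ?_⟩
  show x ∈ Set.range (algebraMap K L)
  rw [IsGalois.mem_range_algebraMap_iff_fixed]
  intro g
  obtain ⟨i, -, rfl⟩ := FiniteField.Extension.exists_frob_pow_eq K p 2 g
  have hF : FiniteField.Extension.frob K p 2 x = x := by
    rw [FiniteField.Extension.frob_apply, ← Fintype.card_eq_nat_card, hK]
    rw [hθ', hθ', hθ', ← pow_mul, ← pow_mul] at hx
    rwa [show q ^ 3 = q * (q * q) by ring]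
  induction i with
  | zero => rfl
  | succ i ih => rw [pow_succ', AlgEquiv.mul_apply, ih, hF]

theorem exists_torus (hq : IsPrimePow q) (hK : Fintype.card K = q ^ 3) :
    ∃ H : Subgroup ↥(twistedD4 K q), IsCyclic ↥H ∧ Nat.card ↥H = (q ^ 3 - 1) * (q + 1) ∧
      Subgroup.centralizer (H : Set ↥(twistedD4 K q)) = H := by
  classical
  obtain ⟨θ, hθ⟩ := Frob.exists_powEquiv (K := K) hq hK
  have h3 := h3_of θ hθ hK
  obtain ⟨L, _, _, ι, θ', hL, hθ', hι⟩ := exists_extension (K := K) hq hK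
  have hc : ∀ x, ι (θ x) = θ' (ι x) := fun x => by rw [hθ, hθ', map_pow]
  have h2q : 2 ≤ q := hq.one_lt
  set N := (q ^ 3 - 1) * (q + 1) with hNdef
  have hN : (N : ℤ) = torN q := by
    rw [hNdef, torN, Nat.cast_mul, Nat.cast_sub (Nat.one_le_pow _ _ (by omega))]
    push_cast
    ring
  have hNpos : 0 < N := Nat.mul_pos (Nat.sub_pos_of_lt (Nat.one_lt_pow (by norm_num) (by omega)))
    (Nat.succ_pos _)
  -- an element of the subfield of `q²` elements outside the one of `q` elements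
  obtain ⟨ω, hω2, hω1⟩ : ∃ ω : L, ω ^ q ^ 2 = ω ∧ ω ^ q ≠ ω := by
    by_contra hne
    simp only [not_exists, not_and, not_not] at hne
    have h1 := Frob.card_fixed (K := L) (e := 3) (hq.pow two_ne_zero) (hL.trans (by ring))
    have h2 := Frob.card_fixed (K := L) (e := 6) hq hL
    have h3 : Nat.card {x : L // x ^ q ^ 2 = x} ≤ Nat.card {x : L // x ^ q = x} :=
      Nat.card_le_card_of_injective (fun x => ⟨x.1, hne x.1 x.2⟩)
        fun x y hxy => Subtype.ext (congrArg (Subtype.val) hxy :)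
    rw [h1, h2, pow_two] at h3
    nlinarith
  set v : L := (θ' ω - ω)⁻¹ with hv
  have hv0 : v ≠ 0 := inv_ne_zero (sub_ne_zero.2 (by rw [hθ']; exact hω1))
  have hθv : θ' v = -v := by
    rw [hv, map_inv₀, map_sub, hθ' (θ' ω), hθ', ← pow_mul, ← pow_two, hω2, ← inv_neg, neg_sub]
  set w := C.G.nE (rt 14) (-v) with hw
  set t : Lˣ := Units.mk0 (-v) (neg_ne_zero.2 hv0) with ht
  have hwt : w = C.G.hd (C.G.simp' (nd 1)) t * C.G.nU (nd 1) := by
    rw [← C.G.nE_simp, simp_rt.2.1]; rfl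
  have hwG : w ∈ chevD4.group L := C.G.nE_mem_group _ _
  have hwπ : C.G.NPerm w (C.G.sP (nd 1)) := by
    rw [hw, ← simp_rt.2.1]; exact C.nE_nPerm _ (neg_ne_zero.2 hv0)
  set g₁ := C.G.xu (rt 9) ω * C.G.xu (rt 14) v with hg₁
  have hg₁G : g₁ ∈ chevD4.group L := mul_mem (C.G.xu_mem _ _) (C.G.xu_mem _ _)
  have hφg₁ : ((twist θ').φ ⟨g₁, hg₁G⟩ : GL chevD4.Idx L) = g₁ * w :=
    φ_conjugator θ' hv hv0 hθv _
  -- a generator of the multiplicative group
  obtain ⟨e, he⟩ := IsCyclic.exists_ofOrder_eq_natCard (α := Lˣ)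
  rw [Nat.card_units, ← Fintype.card_eq_nat_card, hL] at he
  have heM : ∀ k : ℤ, e ^ k = 1 ↔ ((q : ℤ) ^ 2 - q + 1) * torN q ∣ k := by
    intro k
    rw [← orderOf_dvd_iff_zpow_eq_one, he, Nat.cast_sub (Nat.one_le_pow _ _ (by omega)), torN]
    push_cast
    rw [show ((q : ℤ) ^ 2 - q + 1) * (((q : ℤ) ^ 3 - 1) * (q + 1)) = q ^ 6 - 1 by ring]
  have heq : ∀ k l : ℕ, (k : ℤ) - l = 0 ∨ (k : ℤ) - l = (q : ℤ) ^ 6 - 1 → e ^ k = e ^ l := by
    intro k l h
    rw [← mul_inv_eq_one, ← zpow_natCast, ← zpow_natCast, ← zpow_neg, ← zpow_add, heM, ← sub_eq_add_neg]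
    rcases h with h | h <;> rw [h]
    · exact dvd_zero _
    · exact ⟨1, by rw [torN]; ring⟩
  set d := e ^ (q ^ 3 + 1) with hd
  set μ := e ^ (1 + q ^ 2 + q ^ 4) with hμ
  set cc := par θ' μ d with hcc
  obtain ⟨d1, d2, d3, d4, d5, d6⟩ := nd_ne
  have c0 : cc (nd 0) = d := by simp [hcc, par, d1]
  have c1 : cc (nd 1) = μ := by simp [hcc, par]
  have c2 : (cc (nd 2) : L) = (d : L) ^ q := by simp [hcc, par, d2, d4.symm, hθ']
  have c3 : (cc (nd 3) : L) = ((d : L) ^ q) ^ q := by simp [hcc, par, d3, d5.symm, d6.symm, hθ']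
  have hfix3 : θ' (θ' (θ' (d : L))) = (d : L) := by
    rw [hθ', hθ', hθ', hd, ← Units.val_pow_eq_pow_val, ← Units.val_pow_eq_pow_val,
      ← Units.val_pow_eq_pow_val, ← pow_mul, ← pow_mul, ← pow_mul]
    exact congrArg Units.val (heq _ _ (Or.inr (by push_cast; ring)))
  have hμd : (μ : L) * θ' (μ : L) = (d : L) * (d : L) ^ q * ((d : L) ^ q) ^ q := by
    rw [hθ', hd, hμ]
    simp only [← Units.val_pow_eq_pow_val, ← Units.val_mul, ← pow_mul, ← pow_add]
    exact congrArg Units.val (heq _ _ (Or.inl (by push_cast; ring)))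
  have hh : C.G.torθ cc ∈ chevD4.group L :=
    C.G.diagonal_le_group ((C.G.diagonal_eq_range (K := L)).symm ▸ MonoidHom.mem_range.2 ⟨_, rfl⟩)
  have hφh : ((twist θ').φ ⟨C.G.torθ cc, hh⟩ : GL chevD4.Idx L) = w⁻¹ * C.G.torθ cc * w :=
    conj_torθ θ' (by rw [c0]; exact hfix3) (by rw [c0, c2, hθ']) (by rw [c2, c3, hθ'])
      (by rw [c0, c1, c2, c3]; exact hμd) hwt hh
  have hyF : g₁ * C.G.torθ cc * g₁⁻¹ ∈ (twist θ').Fix := by
    refine (twist θ').mem_Fix.2 ⟨mul_mem (mul_mem hg₁G hh) (inv_mem hg₁G), Subtype.ext ?_⟩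
    rw [show (⟨g₁ * C.G.torθ cc * g₁⁻¹, mul_mem (mul_mem hg₁G hh) (inv_mem hg₁G)⟩ :
      ↥(chevD4.group L)) = ⟨g₁, hg₁G⟩ * ⟨C.G.torθ cc, hh⟩ * ⟨g₁, hg₁G⟩⁻¹ from rfl, map_mul, map_mul,
      map_inv, Subgroup.coe_mul, Subgroup.coe_mul, Subgroup.coe_inv, hφg₁, hφh]
    group
    rfl
  obtain ⟨x, hxG, hxy⟩ := fix_descent hc hι hθ h3 hyF
  -- the coordinates
  set a := cart4 cc with ha
  have hta : C.G.torθ cc = C.G.tor a := torθ_eq_tor cc
  simp only [hta] at hφh hxy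
  have hah : C.G.tor a ∈ chevD4.group L := hta ▸ hh
  obtain ⟨haE, -⟩ := fixed_coords θ' hθ' hwG hwπ hah hφh
  set γ := a (nd 0) with hγ
  have hγe : γ = e ^ (((q : ℤ) ^ 2 - q + 1) * (1 + q - q ^ 2)) := by
    have : γ = d ^ 2 * μ⁻¹ := by rw [hγ, ha]; simp [cart4, d1, c0, c1]
    rw [this, hd, hμ, ← pow_mul, ← zpow_natCast, ← zpow_natCast, ← zpow_neg, ← zpow_add]
    congr 1
    push_cast
    ring
  have hγN : ∀ k : ℤ, γ ^ k = 1 ↔ torN q ∣ k := by
    intro k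
    rw [hγe, ← zpow_mul, heM, mul_assoc ((q : ℤ) ^ 2 - q + 1),
      mul_dvd_mul_iff_left (by nlinarith : ((q : ℤ) ^ 2 - q + 1) ≠ 0)]
    exact ⟨(torExp_coprime _).dvd_of_dvd_mul_left, fun h => dvd_mul_of_dvd_right h _⟩
  have hchi : ∀ r, C.G.chi a r = γ ^ torExp q r := chi_eq_zpow haE
  have hreg : Reg C a := fun s h => by
    rw [hchi, hγN] at h
    exact (torExp_root h2q s).1 h
  have htor : C.G.tor a ∈ chevD4.diagonalSubgroup L :=
    hta ▸ (C.G.diagonal_eq_range (K := L)).symm ▸ MonoidHom.mem_range.2 ⟨_, rfl⟩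
  -- the embedding
  let ψ : ↥(twistedD4 K q) →* GL chevD4.Idx L :=
    (MulAut.conj g₁⁻¹).toMonoidHom.comp ((fmap chevD4 ι).comp (twistedD4 K q).subtype)
  have hψ : ∀ g, ψ g = g₁⁻¹ * fmap chevD4 ι (g : GL chevD4.Idx K) * g₁ := fun g => by simp [ψ]
  have hψinj : Function.Injective ψ := fun g g' h => by
    rw [hψ, hψ, mul_left_inj, mul_right_inj] at h
    exact Subtype.ext (fmap_injective ι h)
  set x₀ : ↥(twistedD4 K q) := ⟨x, hxG⟩
  have hψx : ψ x₀ = C.G.tor a := by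
    rw [hψ, show fmap chevD4 ι ((x₀ : ↥(twistedD4 K q)) : GL chevD4.Idx K) = _ from hxy]; group
  have horder : orderOf x₀ = N := by
    rw [← orderOf_injective ψ hψinj x₀, hψx, orderOf_injective (C.G.tor (K := L)) (tor_inj C) a]
    refine Nat.dvd_antisymm (orderOf_dvd_of_pow_eq_one ?_) ?_
    · funext j
      rw [Pi.pow_apply, haE, ← zpow_natCast, ← zpow_mul, hN, mul_comm, zpow_mul, (hγN _).2 dvd_rfl,
        one_zpow, Pi.one_apply]
    · rw [← Int.natCast_dvd_natCast, hN, ← hγN, zpow_natCast, hγ, ← Pi.pow_apply,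
        pow_orderOf_eq_one, Pi.one_apply]
  have hcent : ∀ g : ↥(twistedD4 K q), g * x₀ = x₀ * g → g ∈ Subgroup.zpowers x₀ := by
    intro g hg
    have hgG : (g : GL chevD4.Idx K) ∈ chevD4.group K :=
      (twist θ).Fix_le (le_Fix θ hθ h3 g.2)
    have hψG : ψ g ∈ chevD4.group L := by
      rw [hψ]; exact mul_mem (mul_mem (inv_mem hg₁G) (C.G.fmap_mem_group ι hgG)) hg₁G
    have hcomm : ψ g * C.G.tor a = C.G.tor a * ψ g := by rw [← hψx, ← map_mul, hg, map_mul]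
    obtain ⟨hmon, π, hπ⟩ := twist_reg C hψG htor htor hreg hreg hcomm
    have hπW := mem_Wg_of_monomial C hmon hπ
    have hπ1 : π = 1 := eq_one_of_fix_char h2q hπW fun i => by
      rw [← hγN, zpow_sub, ← hchi, ← hchi, chi_of_conj C hπ hcomm, C.G.rho_simp, mul_inv_cancel]
    have hdiag : ψ g ∈ chevD4.diagonalSubgroup L := C.G.mem_H_of_nPerm_one hmon (hπ1 ▸ hπ)
    obtain ⟨b, hb⟩ := C.G.exists_tor hdiag
    have hbG : C.G.tor b ∈ chevD4.group L := hb ▸ hψG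
    have hφb : ((twist θ').φ ⟨C.G.tor b, hbG⟩ : GL chevD4.Idx L) = w⁻¹ * C.G.tor b * w := by
      have hF := fmap_mem_Fix hc (le_Fix θ hθ h3 g.2)
      have hFG := (twist θ').Fix_le hF
      have e : (⟨C.G.tor b, hbG⟩ : ↥(chevD4.group L)) =
          ⟨g₁, hg₁G⟩⁻¹ * ⟨_, hFG⟩ * ⟨g₁, hg₁G⟩ := Subtype.ext (show C.G.tor b = g₁⁻¹ * fmap chevD4 ι (g : GL chevD4.Idx K) * g₁ by rw [← hb, hψ])
      rw [e, map_mul, map_mul, map_inv, Subgroup.coe_mul, Subgroup.coe_mul, Subgroup.coe_inv, hφg₁,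
        (twist θ').fix_eq hF, ← hb, hψ]
      group
    obtain ⟨hbE, hbN⟩ := fixed_coords θ' hθ' hwG hwπ hbG hφb
    obtain ⟨k, hk⟩ : ∃ k : ℕ, γ ^ k = b (nd 0) := by
      have hprim : IsPrimitiveRoot γ N := by
        rw [IsPrimitiveRoot.iff_def]
        refine ⟨?_, fun l hl => ?_⟩
        · rw [← zpow_natCast, hN, hγN]
        · rw [← zpow_natCast, hγN, ← hN] at hl
          exact Int.natCast_dvd_natCast.1 hl
      haveI : NeZero N := ⟨hNpos.ne'⟩
      obtain ⟨k, -, hk⟩ := (IsPrimitiveRoot.coe_units_iff.2 hprim).eq_pow_of_pow_eq_one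
        (ξ := (b (nd 0) : L)) (by
          rw [← Units.val_pow_eq_pow_val, ← zpow_natCast, hN, hbN, Units.val_one])
      exact ⟨k, Units.ext (by rw [Units.val_pow_eq_pow_val, hk])⟩
    refine Subgroup.mem_zpowers_iff.2 ⟨k, ?_⟩
    apply hψinj
    rw [zpow_natCast, map_pow, hψx, hb, ← map_pow]
    congr 1
    funext j
    rw [Pi.pow_apply, haE, hbE j, ← hk, ← zpow_natCast, ← zpow_natCast, ← zpow_mul, ← zpow_mul,
      mul_comm]
  refine ⟨Subgroup.zpowers x₀, inferInstance, by rw [Nat.card_zpowers, horder], le_antisymm ?_ ?_⟩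
  · intro g hg
    exact hcent g (Subgroup.mem_centralizer_iff.1 hg x₀ (Subgroup.mem_zpowers x₀)).symm
  · intro g hg
    refine Subgroup.mem_centralizer_iff.2 fun b hb => ?_
    obtain ⟨i, rfl⟩ := Subgroup.mem_zpowers_iff.1 hg
    obtain ⟨j, rfl⟩ := Subgroup.mem_zpowers_iff.1 hb
    exact ((Commute.refl x₀).zpow_zpow j i).eq

end TD4

end CfsgLib.Lie.Chev
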